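import Groth.Agent.H18Torsor.Basic
import Groth.Agent.H13Desc.Eff.Cover

/-! A torsor for the fpqc topology is trivialized by a single covering morphism. -/

set_option autoImplicit false
set_option linter.style.haveILetI false
set_option backward.isDefEq.respectTransparency false
set_option backward.isDefEq.respectTransparency.types false

universe u

open CategoryTheory CategoryTheory.Limits AlgebraicGeometry Groth.Agent.H13Desc.Eff

namespace Groth.Agent.H12Push

/-- One covering morphism factoring through every scheme having sections over all members. -/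
theorem exists_cover {S : Scheme.{u}} {R : Presieve S} (hR : R ∈ Scheme.fpqcPrecoverage S)
    {Y : Scheme.{u}} (π : Y ⟶ S) (hY : ∀ ⦃T : Scheme.{u}⦄ (f : T ⟶ S), R f → ∃ s : T ⟶ Y, s ≫ π = f) :
    ∃ (X : Scheme.{u}) (c : X ⟶ S) (s : X ⟶ Y), IsCover c ∧ s ≫ π = c := by
  choose T k hk hT using fun U : S.affineOpens => H18Torsor.exists_refinement hR U.2
  choose s hs using fun U : S.affineOpens => hT U Y π hY
  let c : (∐ T) ⟶ S := Sigma.desc fun U => k U ≫ U.1.ι
  refine ⟨∐ T, c, Sigma.desc s, ?_, Sigma.hom_ext _ _ fun U => by simp [c, hs U]⟩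
  haveI : ∀ U, Flat (k U) := fun U => (hk U).1.2
  haveI : ∀ U, Surjective (k U) := fun U => (hk U).1.1
  haveI : ∀ U, QuasiCompact (k U) := fun U => (hk U).2
  haveI : Flat c := IsZariskiLocalAtSource.sigmaDesc fun U => inferInstance
  haveI : Surjective c := ⟨fun x => by
    obtain ⟨_, ⟨V : S.Opens, hV, rfl⟩, hxV, -⟩ :=
      S.isBasis_affineOpens.exists_subset_of_mem_open (Set.mem_univ x) isOpen_univ
    obtain ⟨y, hy⟩ := (k ⟨V, hV⟩).surjective ⟨x, hxV⟩
    refine ⟨Sigma.ι T ⟨V, hV⟩ y, ?_⟩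
    rw [← Scheme.Hom.comp_apply, Sigma.ι_desc, Scheme.Hom.comp_apply, hy]
    rfl⟩
  haveI : QuasiCompactCover (PreZeroHypercover.singleton.{u} c) := by
    refine ⟨fun {V} hV => ?_⟩
    haveI : IsAffine (V : Scheme.{u}) := hV
    haveI : CompactSpace (T ⟨V, hV⟩) := QuasiCompact.compactSpace_of_compactSpace (k ⟨V, hV⟩)
    refine IsCompactOpenCovered.of_finite (κ := PUnit.{1}) (fun _ => PUnit.unit)
      (fun _ => (Sigma.ι T ⟨V, hV⟩).opensRange) (fun _ => ?_) ?_
    · exact isCompact_range (Sigma.ι T ⟨V, hV⟩).continuous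
    · rw [Set.iUnion_const]
      show c '' Set.range (Sigma.ι T ⟨V, hV⟩) = _
      rw [← Set.range_comp]
      have e : (fun y => c (Sigma.ι T ⟨V, hV⟩ y)) = fun y => V.ι (k ⟨V, hV⟩ y) := funext fun y => by
        rw [← Scheme.Hom.comp_apply, Sigma.ι_desc, Scheme.Hom.comp_apply]
      show Set.range (fun y => c (Sigma.ι T ⟨V, hV⟩ y)) = _
      rw [e, Set.range_comp' V.ι (k ⟨V, hV⟩), (k ⟨V, hV⟩).surjective.range_eq, Set.image_univ]
      exact Scheme.Opens.range_ι V
  refine ⟨?_, ?_⟩
  · rw [← PreZeroHypercover.presieve₀_singleton c, Scheme.presieve₀_mem_qcPrecoverage_iff]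
    infer_instance
  · rw [Scheme.singleton_mem_precoverage_iff]
    exact ⟨Scheme.Hom.surjective c, inferInstance⟩

end Groth.Agent.H12Push
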