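import Groth.Agent.H12Push.Cover
import Groth.Agent.H15Magnet.AffineRep
import Groth.Agent.H13Desc.SchDD
import Groth.Agent.H27SekSuwa.Pushout

/-! Pushing an fpqc torsor along a homomorphism to an affine group scheme. -/

set_option autoImplicit false
set_option linter.style.haveILetI false
set_option backward.isDefEq.respectTransparency false
set_option backward.isDefEq.respectTransparency.types false

universe u

open CategoryTheory CategoryTheory.Limits AlgebraicGeometry Desc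
open MonoidalCategory CartesianMonoidalCategory MonObj
open Groth.Agent.H27SekSuwa.Pushout Groth.Agent.H13Desc.Eff

namespace Groth.Agent.H12Push

variable {S : Scheme.{u}} {G H P : Over S} [GrpObj G] [GrpObj H] (a : AlgGrp.Action G P)
  (hps : NonAbH1.IsPseudoTorsorSch a) (χ : G ⟶ H)

/-- The image in `H` of the difference of two points of the torsor. -/
noncomputable def dd {T : Over S} (x y : T ⟶ P) : T ⟶ H := lift x y ≫ diff a hps ≫ χ

theorem comp_dd {T T' : Over S} (g : T' ⟶ T) (x y : T ⟶ P) :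
    g ≫ dd a hps χ x y = dd a hps χ (g ≫ x) (g ≫ y) := by
  simp [dd, comp_lift_assoc]

theorem dd_self [IsMonHom χ] {T : Over S} (x : T ⟶ P) : dd a hps χ x x = 1 := by
  rw [dd, ← Category.assoc, eq_diff a hps (H18Torsor.one_smul_pt a x), MonObj.one_comp]

theorem dd_mul [IsMonHom χ] {T : Over S} (x y z : T ⟶ P) :
    dd a hps χ x y * dd a hps χ y z = dd a hps χ x z := by
  simp only [dd, ← Category.assoc]
  rw [← MonObj.mul_comp, eq_diff a hps (x := x) (y := z) (g := (lift x y ≫ diff a hps) * (lift y z ≫ diff a hps))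
    (by rw [H18Torsor.mul_smul_pt, smul_diff, smul_diff])]

theorem dd_smul [IsMonHom χ] {T : Over S} (g : T ⟶ G) (x y : T ⟶ P) :
    dd a hps χ (H18Torsor.smul a g x) y = (g ≫ χ) * dd a hps χ x y := by
  simp only [dd, ← Category.assoc]
  rw [← MonObj.mul_comp, eq_diff a hps (x := H18Torsor.smul a g x) (y := y) (g := g * (lift x y ≫ diff a hps))
    (by rw [H18Torsor.mul_smul_pt, smul_diff])]

variable [IsMonHom χ] {S' : Over S} (s : S' ⟶ P)

/-- A point of `H ⊗ S'` seen over the base through its projection. -/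
noncomputable def ptOf {T : Scheme.{u}} {x₀ : T ⟶ S'.left} (v : Lifts (Over.mk (snd H S').left) x₀) :
    Over.mk (x₀ ≫ S'.hom) ⟶ H ⊗ S' :=
  Over.homMk v.1 (by
    have hv : v.1 ≫ (snd H S').left = x₀ := v.2
    show v.1 ≫ (H ⊗ S').hom = x₀ ≫ S'.hom
    rw [← Over.w (snd H S'), ← Category.assoc, hv])

/-- A second point over the same point of the base. -/
noncomputable def baseOf {T : Scheme.{u}} (x₀ x₁ : T ⟶ S'.left) (h : x₀ ≫ S'.hom = x₁ ≫ S'.hom) :
    Over.mk (x₀ ≫ S'.hom) ⟶ S' :=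
  Over.homMk x₁ h.symm

/-- Changing the trivialization. -/
noncomputable def trans {T : Over S} (z : T ⟶ H ⊗ S') (x : T ⟶ S') : T ⟶ H ⊗ S' :=
  lift ((z ≫ fst H S') * dd a hps χ ((z ≫ snd H S') ≫ s) (x ≫ s)) x

theorem comp_trans {T T' : Over S} (g : T' ⟶ T) (z : T ⟶ H ⊗ S') (x : T ⟶ S') :
    g ≫ trans a hps χ s z x = trans a hps χ s (g ≫ z) (g ≫ x) := by
  simp [trans, comp_lift, MonObj.comp_mul, comp_dd]

theorem trans_snd {T : Over S} (z : T ⟶ H ⊗ S') (x : T ⟶ S') : trans a hps χ s z x ≫ snd H S' = x :=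
  lift_snd _ _

theorem trans_self {T : Over S} (z : T ⟶ H ⊗ S') : trans a hps χ s z (z ≫ snd H S') = z := by
  rw [trans, dd_self, _root_.mul_one, lift_comp_fst_snd]

theorem trans_trans {T : Over S} (z : T ⟶ H ⊗ S') (x y : T ⟶ S') :
    trans a hps χ s (trans a hps χ s z x) y = trans a hps χ s z y := by
  simp only [trans, lift_fst, lift_snd]
  rw [_root_.mul_assoc, dd_mul]

/-- The transition on points. -/
noncomputable def gluePt {T : Scheme.{u}} (x₀ x₁ : T ⟶ S'.left) (h : x₀ ≫ S'.hom = x₁ ≫ S'.hom)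
    (v : Lifts (Over.mk (snd H S').left) x₀) : Lifts (Over.mk (snd H S').left) x₁ :=
  ⟨(trans a hps χ s (ptOf v) (baseOf x₀ x₁ h)).left,
    congrArg CommaMorphism.left (trans_snd a hps χ s (ptOf v) (baseOf x₀ x₁ h))⟩

theorem gluePt_spec {T : Scheme.{u}} {x₀ x₁ : T ⟶ S'.left} (h : x₀ ≫ S'.hom = x₁ ≫ S'.hom)
    (v : Lifts (Over.mk (snd H S').left) x₀) {W : Over S} (g : W.left ⟶ T) (z : W ⟶ H ⊗ S') (x : W ⟶ S')
    (hz : z.left = g ≫ v.1) (hx : x.left = g ≫ x₁) :
    g ≫ (gluePt a hps χ s x₀ x₁ h v).1 = (trans a hps χ s z x).left := by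
  let go : W ⟶ Over.mk (x₀ ≫ S'.hom) := Over.homMk g (by
    show g ≫ x₀ ≫ S'.hom = W.hom
    rw [h, ← Category.assoc, ← hx]
    exact Over.w x)
  have hzo : go ≫ ptOf v = z := Over.OverMorphism.ext hz.symm
  have hxo : go ≫ baseOf x₀ x₁ h = x := Over.OverMorphism.ext hx.symm
  rw [← hzo, ← hxo, ← comp_trans]
  rfl

theorem gluePt_comp {T : Scheme.{u}} (x₀ x₁ x₂ : T ⟶ S'.left) (h₀₁ : x₀ ≫ S'.hom = x₁ ≫ S'.hom)
    (h₁₂ : x₁ ≫ S'.hom = x₂ ≫ S'.hom) (v : Lifts (Over.mk (snd H S').left) x₀) :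
    gluePt a hps χ s x₁ x₂ h₁₂ (gluePt a hps χ s x₀ x₁ h₀₁ v) =
      gluePt a hps χ s x₀ x₂ (h₀₁.trans h₁₂) v := by
  refine Subtype.ext ?_
  rw [← Category.id_comp (gluePt a hps χ s x₁ x₂ h₁₂ (gluePt a hps χ s x₀ x₁ h₀₁ v)).1]
  refine (gluePt_spec a hps χ s h₁₂ _ (W := Over.mk (x₀ ≫ S'.hom)) (𝟙 T)
    (trans a hps χ s (ptOf v) (baseOf x₀ x₁ h₀₁)) (baseOf x₀ x₂ (h₀₁.trans h₁₂))
    (Category.id_comp _).symm (Category.id_comp _).symm).trans ?_
  rw [trans_trans]
  rfl

theorem gluePt_self {T : Scheme.{u}} (x : T ⟶ S'.left) (v : Lifts (Over.mk (snd H S').left) x) :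
    gluePt a hps χ s x x rfl v = v := by
  refine Subtype.ext ?_
  have e : baseOf x x rfl = ptOf v ≫ snd H S' := Over.OverMorphism.ext v.2.symm
  show (trans a hps χ s (ptOf v) (baseOf x x rfl)).left = v.1
  rw [e, trans_self]
  rfl

/-- The twisted descent datum on the trivial bundle. -/
noncomputable def datum : SchDD S'.hom where
  obj := Over.mk (snd H S').left
  φ T x₀ x₁ h :=
    { toFun := gluePt a hps χ s x₀ x₁ h
      invFun := gluePt a hps χ s x₁ x₀ h.symm
      left_inv := fun v => (gluePt_comp a hps χ s x₀ x₁ x₀ h h.symm v).trans (gluePt_self a hps χ s x₀ v)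
      right_inv := fun v => (gluePt_comp a hps χ s x₁ x₀ x₁ h.symm h v).trans (gluePt_self a hps χ s x₁ v) }
  φ_natural T T' g x₀ x₁ h h' v v' hv := by
    refine Eq.symm ((gluePt_spec a hps χ s h v (W := Over.mk ((g ≫ x₀) ≫ S'.hom)) g (ptOf v')
      (baseOf (g ≫ x₀) (g ≫ x₁) h') hv rfl).trans ?_)
    rfl
  φ_self T x v := gluePt_self a hps χ s x v
  φ_comp T x₀ x₁ x₂ h₀₁ h₁₂ v := gluePt_comp a hps χ s x₀ x₁ x₂ h₀₁ h₁₂ v

/-- The twist of the trivial bundle: its points over the covering, and the change of trivialization. -/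
theorem exists_quotient [IsCover S'.hom] [Flat S'.hom] [Surjective S'.hom] [IsAffineHom H.hom] :
    ∃ (U : Over S) (q : H ⊗ S' ⟶ U),
      (∀ (T : Over S) (z : T ⟶ H ⊗ S') (x : T ⟶ S'), trans a hps χ s z x ≫ q = z ≫ q) ∧
      (∀ (T : Over S) (u : T ⟶ U) (x : T ⟶ S'), ∃ h : T ⟶ H, lift h x ≫ q = u) ∧
      (∀ (T : Over S) (h h' : T ⟶ H) (x : T ⟶ S'), lift h x ≫ q = lift h' x ≫ q → h = h') := by
  haveI : IsAffineHom (datum a hps χ s).obj.hom :=
    MorphismProperty.pullback_snd H.hom S'.hom ‹IsAffineHom H.hom›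
  obtain ⟨U, ⟨e⟩⟩ := H15Magnet.AffineRep.isEffective_affine S'.hom (datum a hps χ s)
  let E : pullback S'.hom U.hom ⟶ (H ⊗ S').left := e.hom.hom.left
  let E' : (H ⊗ S').left ⟶ pullback S'.hom U.hom := e.inv.hom.left
  have hE : E ≫ (snd H S').left = pullback.fst S'.hom U.hom := Over.w e.hom.hom
  have hE' : E' ≫ pullback.fst S'.hom U.hom = (snd H S').left := Over.w e.inv.hom
  have hEE' : E ≫ E' = 𝟙 _ := by
    show e.hom.hom.left ≫ e.inv.hom.left = _
    rw [← Over.comp_left, ← SchDD.comp_hom, e.hom_inv_id]; rfl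
  have hE'E : E' ≫ E = 𝟙 _ := by
    show e.inv.hom.left ≫ e.hom.hom.left = _
    rw [← Over.comp_left, ← SchDD.comp_hom, e.inv_hom_id]; rfl
  let q : H ⊗ S' ⟶ U := Over.homMk (E' ≫ pullback.snd S'.hom U.hom) (by
    rw [Category.assoc, ← pullback.condition, reassoc_of% hE']
    exact Over.w (snd H S'))
  refine ⟨U, q, fun T z x => ?_, fun T u x => ?_, fun T h h' x he => ?_⟩
  · have hb : (z ≫ snd H S').left ≫ S'.hom = x.left ≫ S'.hom := (Over.w _).trans (Over.w x).symm
    let v : Lifts (datum a hps χ s).obj (z ≫ snd H S').left := ⟨z.left, rfl⟩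
    let w : Lifts ((toDD S'.hom).obj U).obj (z ≫ snd H S').left :=
      ⟨z.left ≫ E', by
        show (z.left ≫ E') ≫ pullback.fst S'.hom U.hom = _
        rw [Category.assoc, hE']
        rfl⟩
    have h1 := e.inv.comm _ _ hb v w rfl
    have h2 := congrArg (· ≫ pullback.snd S'.hom U.hom) h1
    change pullback.lift _ _ _ ≫ pullback.snd S'.hom U.hom = _ at h2
    rw [pullback.lift_snd] at h2
    have h3 := gluePt_spec a hps χ s hb v (W := T) (𝟙 T.left) z x (Category.id_comp _).symm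
      (Category.id_comp _).symm
    rw [Category.id_comp] at h3
    apply Over.OverMorphism.ext
    show (trans a hps χ s z x).left ≫ E' ≫ pullback.snd S'.hom U.hom = z.left ≫ E' ≫ pullback.snd S'.hom U.hom
    rw [← h3, ← Category.assoc, ← Category.assoc]
    exact h2.symm
  · have hc : x.left ≫ S'.hom = u.left ≫ U.hom := (Over.w x).trans (Over.w u).symm
    let z : T ⟶ H ⊗ S' := Over.homMk (pullback.lift x.left u.left hc ≫ E) (by
      rw [← Over.w (snd H S'), Category.assoc, reassoc_of% hE, pullback.lift_fst_assoc]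
      exact Over.w x)
    have hz : z ≫ snd H S' = x := Over.OverMorphism.ext (by
      show (pullback.lift x.left u.left hc ≫ E) ≫ (snd H S').left = x.left
      rw [Category.assoc, hE, pullback.lift_fst])
    refine ⟨z ≫ fst H S', ?_⟩
    conv_lhs => rw [← hz, lift_comp_fst_snd]
    apply Over.OverMorphism.ext
    show (pullback.lift x.left u.left hc ≫ E) ≫ E' ≫ pullback.snd S'.hom U.hom = u.left
    rw [Category.assoc, reassoc_of% hEE', pullback.lift_snd]
  · have h1 : (lift h x).left ≫ E' = (lift h' x).left ≫ E' := by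
      refine pullback.hom_ext ?_ ?_
      · simp only [Category.assoc, hE']
        exact congrArg CommaMorphism.left ((lift_snd h x).trans (lift_snd h' x).symm)
      · simp only [Category.assoc]
        exact congrArg CommaMorphism.left he
    have h2 := congrArg (· ≫ E) h1
    simp only [Category.assoc, hE'E, Category.comp_id] at h2
    simpa using congrArg (· ≫ fst H S') (Over.OverMorphism.ext h2 : lift h x = lift h' x)

omit [GrpObj G] [GrpObj H] in
theorem effectiveEpi_fst [IsCover S'.hom] (W : Over S) : EffectiveEpi (fst W S').left := by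
  haveI := IsCover.of_isPullback S'.hom (IsPullback.of_hasPullback W.hom S'.hom).flip
  exact (inferInstance : EffectiveEpi (pullback.fst W.hom S'.hom))

omit [GrpObj G] [GrpObj H] in
theorem hom_ext_cover [IsCover S'.hom] {W Y : Over S} {u v : W ⟶ Y}
    (h : ∀ (T : Over S) (t : T ⟶ W), (T ⟶ S') → t ≫ u = t ≫ v) : u = v := by
  haveI := effectiveEpi_fst (S' := S') W
  exact Over.OverMorphism.ext ((cancel_epi (fst W S').left).1
    (congrArg CommaMorphism.left (h _ (fst W S') (snd W S'))))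

omit [GrpObj G] [GrpObj H] in
theorem exists_desc [IsCover S'.hom] {W Y : Over S} (r : W ⊗ S' ⟶ Y)
    (hr : ∀ (T : Over S) (t : T ⟶ W) (x y : T ⟶ S'), lift t x ≫ r = lift t y ≫ r) :
    ∃ r₀ : W ⟶ Y, ∀ (T : Over S) (t : T ⟶ W) (x : T ⟶ S'), t ≫ r₀ = lift t x ≫ r := by
  haveI := effectiveEpi_fst (S' := S') W
  have hinv : ∀ {Z : Scheme.{u}} (g₁ g₂ : Z ⟶ (W ⊗ S').left),
      g₁ ≫ (fst W S').left = g₂ ≫ (fst W S').left → g₁ ≫ r.left = g₂ ≫ r.left := by
    intro Z g₁ g₂ hg
    let To : Over S := Over.mk (g₁ ≫ (W ⊗ S').hom)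
    let c₁ : To ⟶ W ⊗ S' := Over.homMk g₁
    let c₂ : To ⟶ W ⊗ S' := Over.homMk g₂ (by
      show g₂ ≫ (W ⊗ S').hom = g₁ ≫ (W ⊗ S').hom
      rw [← Over.w (fst W S'), reassoc_of% hg])
    have hf : c₁ ≫ fst W S' = c₂ ≫ fst W S' := Over.OverMorphism.ext hg
    have e := hr To (c₁ ≫ fst W S') (c₁ ≫ snd W S') (c₂ ≫ snd W S')
    rw [lift_comp_fst_snd, hf, lift_comp_fst_snd] at e
    exact congrArg CommaMorphism.left e
  let rl := EffectiveEpi.desc (fst W S').left r.left hinv
  have hfac : (fst W S').left ≫ rl = r.left := EffectiveEpi.fac _ _ _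
  let r₀ : W ⟶ Y := Over.homMk rl (by
    rw [← cancel_epi (fst W S').left, reassoc_of% hfac]
    exact (Over.w r).trans (Over.w (fst W S')).symm)
  have h₀ : fst W S' ≫ r₀ = r := Over.OverMorphism.ext hfac
  exact ⟨r₀, fun T t x => by rw [← h₀, lift_fst_assoc]⟩

include hps s in
/-- The twist of `H` is a pseudo-torsor receiving the torsor equivariantly. -/
theorem exists_twist [IsCover S'.hom] [Flat S'.hom] [Surjective S'.hom] [IsAffineHom H.hom] :
    ∃ (U : Over S) (b : AlgGrp.Action H U) (f : P ⟶ U), NonAbH1.IsPseudoTorsorSch b ∧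
      a.act ≫ f = lift (fst G P ≫ χ) (snd G P ≫ f) ≫ b.act := by
  obtain ⟨U, q, qinv, qex, qinj⟩ := exists_quotient a hps χ s
  have qchange : ∀ {T : Over S} (h : T ⟶ H) (x y : T ⟶ S'),
      lift (h * dd a hps χ (x ≫ s) (y ≫ s)) y ≫ q = lift h x ≫ q := fun h x y => by
    have := qinv _ (lift h x) y
    simpa [trans] using this
  obtain ⟨k₀, hk₀⟩ := qex ((H ⊗ U) ⊗ S') (fst _ _ ≫ snd H U) (snd _ _)
  let r : (H ⊗ U) ⊗ S' ⟶ U := lift ((fst _ _ ≫ fst H U) * k₀) (snd _ _) ≫ q
  have hr : ∀ {T : Over S} (h k : T ⟶ H) (x : T ⟶ S'),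
      lift (lift h (lift k x ≫ q)) x ≫ r = lift (h * k) x ≫ q := fun h k x => by
    have e := congrArg (lift (lift h (lift k x ≫ q)) x ≫ ·) hk₀
    simp only [comp_lift_assoc, lift_snd, lift_fst_assoc] at e
    simp only [r, comp_lift_assoc, MonObj.comp_mul, lift_fst_assoc, lift_snd, lift_fst, qinj _ _ _ _ e]
  obtain ⟨act, hact₀⟩ := exists_desc r fun T t x y => by
    obtain ⟨h, u, rfl⟩ : ∃ h u, t = lift h u := ⟨t ≫ fst H U, t ≫ snd H U, (lift_comp_fst_snd t).symm⟩
    obtain ⟨k, rfl⟩ := qex T u x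
    rw [hr]
    rw [← qchange k x y, hr, ← _root_.mul_assoc, qchange]
  have hact : ∀ {T : Over S} (h k : T ⟶ H) (x : T ⟶ S'),
      lift h (lift k x ≫ q) ≫ act = lift (h * k) x ≫ q := fun h k x => by rw [hact₀ _ _ x, hr]
  have hone : ∀ {T : Over S} (u : T ⟶ U), lift (1 : T ⟶ H) u ≫ act = u := fun u =>
    hom_ext_cover (S' := S') fun T' t x => by
      obtain ⟨k, hk⟩ := qex T' (t ≫ u) x
      rw [comp_lift_assoc, MonObj.comp_one, ← hk, hact, _root_.one_mul]
  have hmul : ∀ {T : Over S} (h h' : T ⟶ H) (u : T ⟶ U),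
      lift (h * h') u ≫ act = lift h (lift h' u ≫ act) ≫ act := fun h h' u =>
    hom_ext_cover (S' := S') fun T' t x => by
      obtain ⟨k, hk⟩ := qex T' (t ≫ u) x
      simp only [comp_lift_assoc, MonObj.comp_mul]
      rw [← hk, hact, hact, hact, _root_.mul_assoc]
  let b : AlgGrp.Action H U :=
    { act := act
      one_act := by
        have e1 : η[H] ▷ U = lift 1 (snd (𝟙_ (Over S)) U) := by
          apply CartesianMonoidalCategory.hom_ext
          · simp [Hom.one_def, toUnit_unique (fst (𝟙_ (Over S)) U) (toUnit _)]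
          · simp
        rw [e1, hone]
        exact (CartesianMonoidalCategory.leftUnitor_hom U).symm
      mul_act := by
        have e1 : μ[H] ▷ U = lift (fst (H ⊗ H) U ≫ fst H H * fst (H ⊗ H) U ≫ snd H H) (snd (H ⊗ H) U) := by
          apply CartesianMonoidalCategory.hom_ext
          · rw [whiskerRight_fst, lift_fst, ← MonObj.comp_mul]
            refine congrArg (fst (H ⊗ H) U ≫ ·) ?_
            rw [Hom.mul_def, lift_fst_snd, Category.id_comp]
          · simp
        have e2 : (α_ H H U).hom ≫ (H ◁ act) =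
            lift (fst (H ⊗ H) U ≫ fst H H) (lift (fst (H ⊗ H) U ≫ snd H H) (snd (H ⊗ H) U) ≫ act) := by
          apply CartesianMonoidalCategory.hom_ext
          · simp
          · simp only [Category.assoc, whiskerLeft_snd, lift_snd]
            rw [← Category.assoc]
            refine congrArg (· ≫ act) ?_
            apply CartesianMonoidalCategory.hom_ext <;> simp
        rw [e1, hmul, reassoc_of% e2] }
  have hd : ∀ {T : Over S} (y : T ⟶ P) (x : T ⟶ S'),
      lift y x ≫ lift (dd a hps χ (fst P S') (snd P S' ≫ s)) (snd P S') ≫ q =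
        lift (dd a hps χ y (x ≫ s)) x ≫ q := fun y x => by
    simp [comp_lift_assoc, comp_dd]
  obtain ⟨f, hf₀⟩ := exists_desc (lift (dd a hps χ (fst P S') (snd P S' ≫ s)) (snd P S') ≫ q)
    fun T t x y => by rw [hd, hd, ← dd_mul a hps χ t (x ≫ s) (y ≫ s), qchange]
  refine ⟨U, b, f, ?_, hom_ext_cover (S' := S') fun T t x => ?_⟩
  · refine isIso_of_yoneda_map_bijective _ fun W => ⟨fun w w' hw => ?_, fun w => ?_⟩
    · replace hw : w ≫ lift act (snd H U) = w' ≫ lift act (snd H U) := hw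
      have e1 : w ≫ act = w' ≫ act := by simpa using congrArg (· ≫ fst U U) hw
      have e2 : w ≫ snd H U = w' ≫ snd H U := by simpa using congrArg (· ≫ snd U U) hw
      refine CartesianMonoidalCategory.hom_ext _ _ (hom_ext_cover (S' := S') fun T t x => ?_) e2
      obtain ⟨k, hk⟩ := qex T (t ≫ w ≫ snd H U) x
      have e3 : lift (t ≫ w ≫ fst H U) (lift k x ≫ q) ≫ act =
          lift (t ≫ w' ≫ fst H U) (lift k x ≫ q) ≫ act := by
        have p1 : ∀ v : W ⟶ H ⊗ U, lift (t ≫ v ≫ fst H U) (t ≫ v ≫ snd H U) = t ≫ v := fun v => by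
          rw [← Category.assoc, ← Category.assoc, lift_comp_fst_snd]
        rw [hk]
        conv_rhs => rw [e2]
        rw [p1, p1, Category.assoc, Category.assoc, e1]
      rw [hact, hact] at e3
      exact mul_right_cancel (qinj _ _ _ _ e3)
    · obtain ⟨k₁, hk₁⟩ := qex (W ⊗ S') (fst W S' ≫ w ≫ fst U U) (snd W S')
      obtain ⟨k₂, hk₂⟩ := qex (W ⊗ S') (fst W S' ≫ w ≫ snd U U) (snd W S')
      have hk : ∀ {T : Over S} (t : T ⟶ W) (x : T ⟶ S'),
          lift (lift t x ≫ k₁) x ≫ q = t ≫ w ≫ fst U U ∧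
            lift (lift t x ≫ k₂) x ≫ q = t ≫ w ≫ snd U U := fun t x => by
        constructor
        · simpa [comp_lift_assoc] using congrArg (lift t x ≫ ·) hk₁
        · simpa [comp_lift_assoc] using congrArg (lift t x ≫ ·) hk₂
      obtain ⟨h, hh⟩ := exists_desc (k₁ * k₂⁻¹) fun T t x y => by
        have c₁ := qinj _ _ _ y (((qchange _ x y).trans (hk t x).1).trans (hk t y).1.symm)
        have c₂ := qinj _ _ _ y (((qchange _ x y).trans (hk t x).2).trans (hk t y).2.symm)
        simp only [MonObj.comp_mul, GrpObj.comp_inv]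
        rw [← c₁, ← c₂]
        group
      refine ⟨lift h (w ≫ snd U U), CartesianMonoidalCategory.hom_ext _ _ ?_ ?_⟩
      · show (lift h (w ≫ snd U U) ≫ lift act (snd H U)) ≫ fst U U = w ≫ fst U U
        rw [Category.assoc, lift_fst]
        refine hom_ext_cover (S' := S') fun T t x => ?_
        rw [comp_lift_assoc, ← (hk t x).2, hh T t x, hact, ← (hk t x).1, MonObj.comp_mul, GrpObj.comp_inv,
          inv_mul_cancel_right]
      · show (lift h (w ≫ snd U U) ≫ lift act (snd H U)) ≫ snd U U = w ≫ snd U U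
        simp
  · obtain ⟨g, y, rfl⟩ : ∃ g y, t = lift g y := ⟨t ≫ fst G P, t ≫ snd G P, (lift_comp_fst_snd t).symm⟩
    have e : lift g y ≫ a.act = H18Torsor.smul a g y := rfl
    rw [← Category.assoc, e, hf₀ _ _ x, hd, dd_smul, comp_lift_assoc, lift_fst_assoc, lift_snd_assoc,
      hf₀ _ y x, hd, hact]

/-- Pushforward of an fpqc torsor along a homomorphism to an affine group scheme. -/
theorem exists_pushforward [IsAffineHom H.hom] (P' : NonAbH1.TorsorSch G Scheme.fpqcPrecoverage) :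
    ∃ Q : NonAbH1.TorsorSch H Scheme.fpqcPrecoverage,
      NonAbH1.IsPushforwardAlongSch χ P'.act Q.act := by
  obtain ⟨hps, R, hR, hsec⟩ := P'.isTorsor
  obtain ⟨X, c, s, hc, hs⟩ := exists_cover hR P'.X.hom hsec
  haveI : IsCover (Over.mk c).hom := hc
  haveI : Flat (Over.mk c).hom :=
    ((Scheme.singleton_mem_precoverage_iff _ _).1 hc.mem.2).2
  haveI : Surjective (Over.mk c).hom := ⟨((Scheme.singleton_mem_precoverage_iff _ _).1 hc.mem.2).1⟩
  obtain ⟨U, b, f, hb, hf⟩ :=
    exists_twist P'.act hps χ (S' := Over.mk c) (Over.homMk s hs : Over.mk c ⟶ P'.X)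
  refine ⟨⟨U, b, hb, R, hR, fun T g hg => ?_⟩, f, hf⟩
  obtain ⟨y, hy⟩ := hsec g hg
  exact ⟨y ≫ f.left, by rw [Category.assoc, Over.w f, hy]⟩

end Groth.Agent.H12Push
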